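import Groth.Agent.CdAffine9.NormalVanish
import Groth.Agent.S1585
import Groth.Agent.S14179
import Groth.Agent.CdDev9.ResidueCd
import Groth.Agent.Props12.KerReduced
import Groth.Agent.CdCurve24.Basic
import Groth.Agent.Et18.IntegralPush

/-!
`H^2(T, Z/n) = 0` for affine curves over algebraically closed fields.
-/

set_option autoImplicit false
set_option linter.all false
set_option backward.isDefEq.respectTransparency.types false
set_option backward.isDefEq.respectTransparency false
set_option synthInstance.maxHeartbeats 400000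
set_option maxHeartbeats 1000000

universe u

open CategoryTheory CategoryTheory.Limits CategoryTheory.Abelian AlgebraicGeometry Opposite TopologicalSpace
open Groth.Agent.Et18 Groth.Agent.Et18.CdField Groth.Agent.CdCurve24

noncomputable section

namespace Groth.Agent.CdAffine9

variable {k : Type u} [Field k] [IsAlgClosed k]

/-- A normal affine model of a component. -/
theorem exists_component_model (T : Scheme.{u}) (g : T ⟶ Spec (CommRingCat.of k)) [LocallyOfFiniteType g]
    [QuasiCompact g] [IsAffine T] [IsReduced T] (hdim : topologicalKrullDim T ≤ 1) (η : T)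
    (hη : closure {η} ∈ irreducibleComponents (T : Type u)) (hη' : ¬ IsClosed ({η} : Set T)) :
    ∃ (C : Scheme.{u}) (π : C ⟶ T) (_ : IsFinite π) (V : T.Opens), η ∈ V ∧ IsIso (π ∣_ V) ∧
      IsAffine C ∧ IsIntegral C ∧ Pi1.IsNormalScheme C ∧ topologicalKrullDim C = 1 ∧
      Set.range π ⊆ closure {η} := by
  haveI : IsLocallyNoetherian T := LocallyOfFiniteType.isLocallyNoetherian g
  haveI : CompactSpace T := QuasiCompact.compactSpace_of_compactSpace g
  haveI : IsNoetherian T := {}
  let I := Scheme.IdealSheafData.vanishingIdeal (⟨closure {η}, isClosed_closure⟩ : Closeds T)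
  let i := I.subschemeι
  haveI : IsReduced I.subscheme := Props12.isReduced_subscheme_vanishingIdeal _
  have hrange : Set.range i = closure {η} := I.range_subschemeι.trans (Scheme.IdealSheafData.coe_support_vanishingIdeal _)
  obtain ⟨η', hη'e⟩ : ∃ η', i η' = η := by
    have : η ∈ Set.range i := hrange ▸ subset_closure rfl
    exact this
  haveI : IrreducibleSpace I.subscheme := by
    rw [irreducibleSpace_def, Set.top_eq_univ]
    convert (isIrreducible_singleton (x := η')).closure using 1
    refine (Set.eq_univ_of_forall fun x => ?_).symm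
    rw [i.isClosedEmbedding.isEmbedding.closure_eq_preimage_closure_image, Set.image_singleton, hη'e, Set.mem_preimage, ← hrange]
    exact ⟨x, rfl⟩
  haveI : IsIntegral I.subscheme := isIntegral_of_irreducibleSpace_of_isReduced _
  letI : I.subscheme.Over (Spec (CommRingCat.of k)) := ⟨i ≫ g⟩
  haveI : LocallyOfFiniteType (I.subscheme ↘ Spec (CommRingCat.of k)) :=
    inferInstanceAs (LocallyOfFiniteType (i ≫ g))
  haveI : IsAffine I.subscheme := isAffine_of_isAffineHom i
  haveI : QuasiCompact (I.subscheme.fromSpecStalk (genericPoint I.subscheme)) := inferInstance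
  haveI : QuasiSeparated (I.subscheme.fromSpecStalk (genericPoint I.subscheme)) := inferInstance
  obtain ⟨hfin, hdom, ⟨V₀, hV₀, hiso⟩, hint, hnorm⟩ := S1585.result k I.subscheme
  let ν := Curv2.normalizationι I.subscheme
  haveI : IsFinite ν := hfin
  haveI := hdom
  haveI := hint
  let π := ν ≫ i
  haveI : IsFinite π := inferInstance
  haveI : IsAffine (Curv2.normalization I.subscheme) := isAffine_of_isAffineHom ν
  -- the good open
  obtain ⟨O, hO, hne, hOC⟩ :=
    NoetherianSpace.exists_isOpen_nonempty_subset_irreducibleComponent _ hη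
  let V : T.Opens := ⟨O ∩ (i '' ((V₀ : Set I.subscheme)ᶜ))ᶜ,
    hO.inter (i.isClosedEmbedding.isClosedMap _ V₀.isOpen.isClosed_compl).isOpen_compl⟩
  have hgen : genericPoint I.subscheme = η' := by
    refine (genericPoint_spec I.subscheme).eq (isGenericPoint_def.2 (Set.eq_univ_of_forall fun x => ?_))
    rw [i.isClosedEmbedding.isEmbedding.closure_eq_preimage_closure_image, Set.image_singleton, hη'e, Set.mem_preimage, ← hrange]
    exact ⟨x, rfl⟩
  have hηV : η ∈ V := by
    obtain ⟨o, ho⟩ := hne
    refine ⟨(specializes_iff_mem_closure.2 (hOC ho)).mem_open hO ho, ?_⟩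
    rintro ⟨x, hx, hxe⟩
    rw [← hη'e] at hxe
    obtain ⟨v, hv⟩ := hV₀
    rw [i.isClosedEmbedding.injective hxe, ← hgen] at hx
    exact hx ((genericPoint_specializes v).mem_open V₀.isOpen hv)
  have hle : i ⁻¹ᵁ V ≤ V₀ := fun x hx => by
    by_contra h
    exact hx.2 ⟨x, h, rfl⟩
  haveI : IsIso (i ∣_ V) := by
    haveI : IsReduced (V : Scheme.{u}) := inferInstance
    haveI : Surjective (i ∣_ V) := ⟨fun v => by
      obtain ⟨x, hx⟩ : v.1 ∈ Set.range i := hrange ▸ hOC v.2.1
      exact ⟨⟨x, show i x ∈ V from hx ▸ v.2⟩, Subtype.ext ((morphismRestrict_base_coe i V _).trans hx)⟩⟩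
    exact isIso_of_isClosedImmersion_of_surjective _
  haveI : IsIso (ν ∣_ i ⁻¹ᵁ V) := by
    have hW : V₀.ι ''ᵁ (V₀.ι ⁻¹ᵁ (i ⁻¹ᵁ V)) = i ⁻¹ᵁ V := by
      rw [Scheme.Hom.image_preimage_eq_opensRange_inf, Scheme.Opens.opensRange_ι, inf_eq_right.2 hle]
    have h1 : (MorphismProperty.isomorphisms Scheme) ((ν ∣_ V₀) ∣_ (V₀.ι ⁻¹ᵁ (i ⁻¹ᵁ V))) :=
      IsZariskiLocalAtTarget.restrict hiso _
    have h2 := (MorphismProperty.arrow_mk_iso_iff _ (morphismRestrictRestrict ν V₀ _)).1 h1
    rwa [hW] at h2
  haveI hπV : IsIso ((ν ≫ i) ∣_ V) := by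
    rw [morphismRestrict_comp]
    infer_instance
  refine ⟨_, π, inferInstance, V, hηV, hπV, inferInstance, hint, hnorm, ?_, ?_⟩
  · refine le_antisymm ((AlgSpLib.topologicalKrullDim_le_of_isIntegralHom π).trans hdim) ?_
    obtain ⟨x, hx⟩ : ∃ x, π x = η := by
      obtain ⟨x, hx⟩ := (Scheme.homeoOfIso (asIso ((ν ≫ i) ∣_ V))).surjective ⟨η, hηV⟩
      exact ⟨x.1, (morphismRestrict_base_coe π V x).symm.trans (congrArg Subtype.val hx)⟩
    obtain ⟨y, hy⟩ : ∃ y, π y ≠ η := by
      by_contra hall
      push Not at hall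
      refine hη' ?_
      have : Set.range π = {η} := Set.eq_singleton_iff_unique_mem.2 ⟨⟨x, hx⟩, fun z ⟨w, hw⟩ => hw ▸ hall w⟩
      exact this ▸ π.isClosedMap.isClosed_range
    by_contra h
    rw [not_le] at h
    have hmax := Order.krullDim_nonpos_iff_forall_isMin.1 (Order.le_of_lt_succ h)
      ⟨Set.univ, IrreducibleSpace.isIrreducible_univ _, isClosed_univ⟩
    have hcy := hmax (b := ⟨closure {y}, isIrreducible_singleton.closure, isClosed_closure⟩) (fun _ _ => trivial)
    have hxy : y ⤳ x := specializes_iff_mem_closure.2 (hcy trivial)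
    have h1 := hxy.map π.continuous
    rw [hx] at h1
    have hy' : π y ∈ closure ({η} : Set T) := hrange ▸ ⟨ν y, rfl⟩
    exact hy (h1.antisymm (specializes_iff_mem_closure.2 hy')).eq
  · rintro _ ⟨x, rfl⟩
    exact hrange ▸ ⟨ν x, rfl⟩

/-- `H^2(T, Z/n) = 0` on affine curves, `n` invertible. -/
theorem subsingleton_H_two_affine (T : Scheme.{u}) (g : T ⟶ Spec (CommRingCat.of k)) [LocallyOfFiniteType g]
    [QuasiCompact g] [IsAffine T] (hdim : topologicalKrullDim T ≤ 1) (n : ℕ) (hn1 : 1 ≤ n) (hn : (n : k) ≠ 0) :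
    Subsingleton (EtCoh.H T (EtCoh.const T (ZMod n)) 2) := by
  classical
  wlog hred : IsReduced T generalizing T with key
  · let J := Scheme.IdealSheafData.vanishingIdeal (⊤ : Closeds T)
    haveI : IsReduced J.subscheme := Props12.isReduced_subscheme_vanishingIdeal _
    haveI : IsAffine J.subscheme := isAffine_of_isAffineHom J.subschemeι
    haveI : Surjective J.subschemeι := ⟨fun t => by
      have : t ∈ Set.range J.subschemeι := by
        rw [J.range_subschemeι]
        rw [Scheme.IdealSheafData.coe_support_vanishingIdeal]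
        exact Set.mem_univ t
      exact this⟩
    haveI : UniversallyInjective J.subschemeι := inferInstance
    have h := key J.subscheme (J.subschemeι ≫ g)
      ((AlgSpLib.topologicalKrullDim_le_of_isIntegralHom J.subschemeι).trans hdim) inferInstance
    haveI := pull_isEquivalence_of_universalHomeomorph J.subschemeι
    haveI : IsIso ((EtCoh.pullPushAdj J.subschemeι).unit.app (EtCoh.const T (ZMod n))) := inferInstance
    exact CdDev9.subsingleton_H_of_iso
      ((EtCoh.push J.subschemeι).mapIso (EtCore.pullConst J.subschemeι (ZMod n)).symm ≪≫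
        (asIso ((EtCoh.pullPushAdj J.subschemeι).unit.app (EtCoh.const T (ZMod n)))).symm) 2
      ((subsingleton_H_push_iff J.subschemeι _ 2).2 h)
  haveI : IsLocallyNoetherian T := LocallyOfFiniteType.isLocallyNoetherian g
  haveI : CompactSpace T := QuasiCompact.compactSpace_of_compactSpace g
  haveI : IsNoetherian T := {}
  haveI : IsSeparated g := inferInstance
  haveI : NeZero n := ⟨by omega⟩
  let S : Set T := {η | closure {η} ∈ irreducibleComponents (T : Type u) ∧ ¬ IsClosed ({η} : Set T)}
  have hSfin : S.Finite := by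
    refine ((NoetherianSpace.finite_irreducibleComponents (α := (T : Type u))).preimage
      (f := fun y : T => closure ({y} : Set T)) fun a _ b _ h =>
        ((specializes_iff_closure_subset.2 h.ge).antisymm (specializes_iff_closure_subset.2 h.le)).eq).subset fun η hη => hη.1
  haveI : Fintype S := hSfin.fintype
  choose C π hπ V hV hiso haff hint hnorm hdimC hran using fun η : S => exists_component_model T g hdim η.1 η.2.1 η.2.2
  let F := EtCoh.const T (ZMod n)
  let P : S → EtCoh.Ab T := fun η => (EtCoh.push (π η)).obj ((EtCoh.pull (π η)).obj F)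
  let u : F ⟶ ⨁ P := biproduct.lift fun η => (EtCoh.pullPushAdj (π η)).unit.app F
  have hstalk : ∀ η : S, ∃ (Ω : Type u) (_ : Field Ω) (_ : IsSepClosed Ω) (ξ : Spec (CommRingCat.of Ω) ⟶ T),
      ξ default = η.1 ∧ IsIso ((EtCoh.stalk ξ).map u) := fun η => by
    obtain ⟨s, hs⟩ : ∃ s, π η s = η.1 := by
      haveI := hiso η
      obtain ⟨x, hx⟩ := (Scheme.homeoOfIso (asIso (π η ∣_ V η))).surjective ⟨η.1, hV η⟩
      exact ⟨x.1, (morphismRestrict_base_coe (π η) (V η) x).symm.trans (congrArg Subtype.val hx)⟩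
    let ξ := sepPoint (C η) s ≫ π η
    have hξ : ξ default = η.1 := by rw [Scheme.Hom.comp_apply, sepPoint_default, hs]
    refine ⟨_, inferInstance, inferInstance, ξ, hξ, ?_⟩
    haveI := S19255.isIso_stalk_biproduct_π P ξ η fun b hb => by
      haveI := hπ b
      refine isZero_stalk_push_of_disjoint (π b) _ ξ ⟨(closure {b.1})ᶜ, isClosed_closure.isOpen_compl⟩ ?_ ?_
      · rw [hξ]
        intro hmem
        refine hb (Subtype.ext ?_)
        have hle : closure {η.1} ⊆ closure {b.1} := closure_minimal (Set.singleton_subset_iff.2 hmem) isClosed_closure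
        have heq := (η.2.1.eq_of_subset b.2.1.prop hle)
        exact ((specializes_iff_closure_subset.2 heq.ge).antisymm (specializes_iff_closure_subset.2 heq.le)).eq.symm
      · exact disjoint_compl_left.mono_right (hran b)
    haveI : IsIso ((EtCoh.stalk ξ).map u ≫ (EtCoh.stalk ξ).map (biproduct.π P η)) := by
      rw [← Functor.map_comp, biproduct.lift_π]
      exact S14179.isIso_stalk_unit_local (π η) (V η) (hiso η) (sepPoint (C η) s)
        (by rw [sepPoint_default, hs]; exact hV η) F
    exact IsIso.of_isIso_comp_right _ ((EtCoh.stalk ξ).map (biproduct.π P η))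
  have hclosed : ∀ y : T, y ∉ S → IsClosed ({y} : Set T) := fun y hy => by
    by_contra hcl
    obtain ⟨Z, hZ, hyZ⟩ := exists_mem_irreducibleComponents_subset_of_isIrreducible _
      (isIrreducible_singleton (x := y)).closure
    obtain ⟨z, hz⟩ := QuasiSober.sober hZ.1 (isClosed_of_mem_irreducibleComponents Z hZ)
    by_cases hzy : z = y
    · subst hzy
      exact hy ⟨hz.symm ▸ hZ, hcl⟩
    · exact hcl (VarietyLib.isClosed_of_specializes_ne hdim (hz.specializes (hyZ (subset_closure rfl))) hzy)
  have hK : ∀ y ∈ EtPBC.supp (kernel u), IsClosed ({y} : Set T) := fun y hy => hclosed y fun hyS => by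
    obtain ⟨Ω, _, _, ξ, hξ, _⟩ := hstalk ⟨y, hyS⟩
    exact (mem_supp_iff _ ξ hξ).1 hy (IsZero.of_iso (isZero_kernel_of_mono _) (PreservesKernel.iso _ u))
  have hC : ∀ y ∈ EtPBC.supp (cokernel u), IsClosed ({y} : Set T) := fun y hy => hclosed y fun hyS => by
    obtain ⟨Ω, _, _, ξ, hξ, _⟩ := hstalk ⟨y, hyS⟩
    exact (mem_supp_iff _ ξ hξ).1 hy (IsZero.of_iso (isZero_cokernel_of_epi _) (PreservesCokernel.iso _ u))
  have hB : Subsingleton (EtCoh.H T (⨁ P) 2) := by
    refine GalEt.subsingleton_of_forall_eq_zero fun x => ?_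
    have hx : ∀ η, x.comp (Ext.mk₀ (biproduct.π P η)) (add_zero 2) = 0 := fun η => by
      haveI := hπ η
      haveI := haff η
      haveI := hint η
      have h2 := subsingleton_H_two_const (C η) (π η ≫ g) (hnorm η) (hdimC η) n hn1 hn
      exact @Subsingleton.elim _ ((subsingleton_H_push_iff (π η) _ 2).2
        ((((EtCoh.HF (C η) 2).mapIso (EtCore.pullConst (π η) (ZMod n))).addCommGroupIsoToAddEquiv.toEquiv.subsingleton_congr).2 h2)) _ _
    have e : ∑ η, biproduct.π P η ≫ biproduct.ι P η = 𝟙 (⨁ P) := IsBilimit.total (biproduct.isBilimit _)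
    let φ : (⨁ P ⟶ ⨁ P) →+ EtCoh.H T (⨁ P) 2 :=
      AddMonoidHom.mk' (fun f => x.comp (Ext.mk₀ f) (add_zero 2)) fun a b => by simp only [Ext.mk₀_add, Ext.comp_add]
    have h := congrArg φ e
    rw [map_sum] at h
    refine Eq.trans ?_ (h.symm.trans (Finset.sum_eq_zero fun η _ => ?_))
    · exact (Ext.comp_mk₀_id x).symm
    · show x.comp (Ext.mk₀ (_ ≫ _)) (add_zero 2) = 0
      rw [← Ext.mk₀_comp_mk₀, ← Ext.comp_assoc_of_third_deg_zero, hx η, Ext.zero_comp]
  have hv : ∀ {M : EtCoh.Ab T}, (∀ y ∈ EtPBC.supp M, IsClosed ({y} : Set T)) → ∀ q, 0 < q →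
      Subsingleton (EtCoh.H T M q) := fun {M} hM q hq => ClosedPointSupport.subsingleton_H g M hM q hq
  exact subsingleton_of_shortExact (S0639.factor_shortExact (kernel.ι u) u (kernel.condition u) (ShortComplex.exact_kernel _))
    (hv hK 2 two_pos) (subsingleton_left (S0639.image_cokernel u) (n := 1) (hv hC 1 one_pos) hB)

end Groth.Agent.CdAffine9
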