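import Groth.Agent.CdCurve24.PTorsion
import Groth.Agent.CdAffine9.Const
import Groth.Agent.AS24.Surj
import Groth.Agent.Et18.ShriekProper
import Groth.Agent.Et18.ConsColim
import Groth.Agent.Et18.FLC
import Groth.Agent.Et18.CdField
import Groth.Agent.LocImm12.ZMT
import Groth.Agent.AlgSpLib.DimBasic

/-!
# Torsion sheaves on affine curves

Over an algebraically closed field a torsion sheaf on an affine scheme of finite type of dimension at most one
has no cohomology above degree one.
-/

set_option autoImplicit false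
set_option linter.all false
set_option backward.isDefEq.respectTransparency.types false
set_option backward.isDefEq.respectTransparency false
set_option backward.defeqAttrib.useBackward true
set_option synthInstance.maxHeartbeats 400000
set_option maxHeartbeats 1000000

universe u

open CategoryTheory CategoryTheory.Limits CategoryTheory.Abelian AlgebraicGeometry Opposite
open Groth.Agent.Et18

noncomputable section

namespace Groth.Agent.CdAffine9.Devissage

open Groth.Agent.CdCurve24 Groth.Agent.CdCurve24.PTor

section Curve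

variable {k : Type u} [Field k] [IsAlgClosed k]

/-- `H^2(T, ℤ/p) = 0` on affine curves. -/
theorem subsingleton_H_two_prime (p : ℕ) [Fact p.Prime] (T : Scheme.{u}) (g : T ⟶ Spec (CommRingCat.of k))
    [LocallyOfFiniteType g] [QuasiCompact g] [IsAffine T] (hdim : topologicalKrullDim T ≤ 1) :
    Subsingleton (EtCoh.H T (EtCoh.const T (ZMod p)) 2) := by
  by_cases hp : (p : k) = 0
  · haveI : CharP k p := by
      refine CharP.congr (ringChar k) ?_
      exact (Nat.prime_dvd_prime_iff_eq
        ((CharP.char_is_prime_or_zero k (ringChar k)).resolve_right fun h0 => (Fact.out : p.Prime).ne_zero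
          (Nat.eq_zero_of_zero_dvd (h0 ▸ ringChar.dvd hp))) Fact.out).1 (ringChar.dvd hp)
    haveI : IsSeparated g := inferInstance
    exact AS24.subsingleton_const_above_dim k p T g 1 (by exact_mod_cast hdim) 2 le_rfl
  · exact subsingleton_H_two_affine T g hdim p (Fact.out : p.Prime).one_le hp

variable (p : ℕ) [Fact p.Prime]

/-- `H^2(T, j_! ℤ/p) = 0` for a dense open `j`. -/
theorem vanish_open {T U : Scheme.{u}} (g : T ⟶ Spec (CommRingCat.of k)) [IsSeparated g]
    [LocallyOfFiniteType g] [QuasiCompact g] [IsAffine T] (hdim : topologicalKrullDim T ≤ 1)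
    (j : U ⟶ T) [IsOpenImmersion j] [EtShriek.JCont j] (hj : DenseRange j) :
    Subsingleton (EtCoh.H T ((EtShriek.extZero j).obj (EtCoh.const U (ZMod p))) 2) := by
  haveI : IsLocallyNoetherian T := LocallyOfFiniteType.isLocallyNoetherian g
  haveI : CompactSpace T := QuasiCompact.compactSpace_of_compactSpace g
  haveI : IsNoetherian T := {}
  let F := EtCoh.const T (ZMod p)
  have h2 : Subsingleton (EtCoh.H T F 2) :=
    subsingleton_H_two_prime p T g hdim
  let e : (EtShriek.restrAlong j).obj F ≅ EtCoh.const U (ZMod p) :=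
    ((pullRestrIso j).app F).symm ≪≫ EtCore.pullConst j (ZMod p)
  refine subsingleton_H_congr ((EtShriek.extZero j).mapIso e) 2 ?_
  let I := Scheme.IdealSheafData.vanishingIdeal
    (⟨(Set.range j)ᶜ, j.isOpenEmbedding.isOpen_range.isClosed_compl⟩ : TopologicalSpace.Closeds T)
  have hZU : Set.range j = (Set.range I.subschemeι)ᶜ := by
    rw [I.range_subschemeι]
    exact (compl_compl _).symm
  obtain ⟨w, hS⟩ := shortExact_recollement (i := I.subschemeι) hZU F
  refine subsingleton_left hS (n := 1) ?_ h2
  refine ClosedPointSupport.subsingleton_H g _ (fun y hy => ?_) 1 one_pos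
  have hyU : y ∉ Set.range j := fun hyr => by
    exact ClosedPointSupport.supp_subset_of_isZero_pull j (isZero_pull_push_compl hZU _) hy hyr
  obtain ⟨C, hC, hyC⟩ := exists_mem_irreducibleComponents_subset_of_isIrreducible _
    (isIrreducible_singleton (x := y)).closure
  obtain ⟨ξ, hξ⟩ := QuasiSober.sober hC.1 (isClosed_of_mem_irreducibleComponents C hC)
  obtain ⟨O, hO, hne, hOC⟩ :=
    TopologicalSpace.NoetherianSpace.exists_isOpen_nonempty_subset_irreducibleComponent C hC
  obtain ⟨v, hvO, hvU⟩ := hj.inter_open_nonempty _ hO hne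
  have hξU : ξ ∈ Set.range j :=
    (hξ.specializes (hOC hvO)).mem_open j.isOpenEmbedding.isOpen_range hvU
  exact VarietyLib.isClosed_of_specializes_ne hdim (hξ.specializes (hyC (subset_closure rfl)))
    fun e => hyU (e ▸ hξU)

variable {X : Scheme.{u}} [IsAffine X] (f : X ⟶ Spec (CommRingCat.of k)) [IsSeparated f] [LocallyOfFiniteType f]
  [QuasiCompact f] (hdim : topologicalKrullDim X ≤ 1)

include f hdim in
/-- `H^2(X, g_! ℤ/p) = 0` for `g` étale, affine source. -/
theorem vanish_etale (W : X.Etale) [IsAffine W.left] [EtShriek.JCont W.hom] :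
    Subsingleton (EtCoh.H X ((EtShriek.extZero W.hom).obj (EtCoh.const W.left (ZMod p))) 2) := by
  haveI : Etale W.hom := W.prop
  haveI : IsLocallyNoetherian X := LocallyOfFiniteType.isLocallyNoetherian f
  haveI : CompactSpace X := QuasiCompact.compactSpace_of_compactSpace f
  haveI : IsNoetherian X := {}
  haveI : X.IsSeparated := ⟨by
    rw [show terminal.from X = f ≫ terminal.from _ from terminal.hom_ext _ _]; infer_instance⟩
  let w : W.left ⟶ X := str W
  haveI : Etale w := W.prop
  haveI : IsSeparated w := by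
    haveI : IsSeparated (w ≫ terminal.from X) := by
      rw [terminal.hom_ext (w ≫ terminal.from X) (terminal.from W.left)]; infer_instance
    exact IsSeparated.of_comp w (terminal.from X)
  haveI : QuasiCompact w := by
    haveI : QuasiCompact (w ≫ terminal.from X) := by
      rw [terminal.hom_ext (w ≫ terminal.from X) (terminal.from W.left)]; infer_instance
    exact QuasiCompact.of_comp w (terminal.from X)
  obtain ⟨T₀, j₀, π₀, hj₀, hqc, hπ₀, e₀⟩ := LocImm12.exists_openImmersion_finite w
  haveI := hj₀; haveI := hqc; haveI := hπ₀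
  let j := j₀.toImage
  haveI : IsOpenImmersion j := inferInstanceAs (IsOpenImmersion j₀.toImage)
  haveI : EtShriek.JCont j := jCont j
  let π := j₀.imageι ≫ π₀
  haveI : IsFinite π := inferInstance
  have hjπ : j ≫ π = w := by
    show j₀.toImage ≫ j₀.imageι ≫ π₀ = w
    rw [Scheme.Hom.toImage_imageι_assoc, e₀]
  have hdense : DenseRange j := (inferInstance : IsDominant j₀.toImage).denseRange
  obtain ⟨e⟩ := nonempty_compactification j π
  let E : EtShriek.extZero W.hom ≅ EtShriek.extZero j ⋙ EtCoh.push π :=
    extZeroShriekIso w ≪≫ eqToIso (by rw [hjπ]) ≪≫ e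
  refine subsingleton_H_congr (E.app _).symm 2 ((CdField.subsingleton_H_push_iff π _ 2).2 ?_)
  haveI : IsSeparated (π ≫ f) := inferInstance
  haveI : LocallyOfFiniteType (π ≫ f) := inferInstance
  haveI : QuasiCompact (π ≫ f) := inferInstance
  haveI : IsAffine j₀.image := isAffine_of_isAffineHom π
  exact vanish_open p (π ≫ f) ((AlgSpLib.topologicalKrullDim_le_of_isIntegralHom π).trans hdim) j hdense

include f hdim in
theorem vanish_etale_group (W : X.Etale) [IsAffine W.left] (A : AddCommGrpCat.{u + 1}) [Finite A]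
 :
    haveI : Etale (str W) := W.prop
    haveI : EtShriek.JCont (str W) := jCont (str W)
    Subsingleton (EtCoh.H X ((cst W.left ⋙ EtShriek.extZero (str W)).obj A) 2) := by
  haveI : Etale (str W) := W.prop
  haveI : EtShriek.JCont (str W) := jCont (str W)
  let Φ := cst W.left ⋙ EtShriek.extZero (str W)
  haveI : PreservesColimitsOfSize.{0, 0} (EtShriek.extZero (str W)) :=
    (EtShriek.extZeroAdj (str W)).leftAdjoint_preservesColimits
  haveI : PreservesFiniteColimits (EtShriek.extZero (str W)) :=
    PreservesColimitsOfSize.preservesFiniteColimits _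
  haveI : PreservesFiniteLimits (EtShriek.extZero (str W)) := Et18.extZero_preservesFiniteLimits (str W)
  haveI : (EtShriek.extZero (str W)).Additive := Functor.additive_of_preserves_binary_products _
  haveI : Φ.Additive := inferInstanceAs ((cst W.left ⋙ EtShriek.extZero (str W)).Additive)
  haveI : PreservesFiniteLimits Φ := comp_preservesFiniteLimits _ _
  haveI : PreservesFiniteColimits Φ := comp_preservesFiniteColimits _ _
  generalize hN : Nat.card A = N
  induction N using Nat.strong_induction_on generalizing A with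
  | _ N ih =>
    subst hN
    rcases subsingleton_or_nontrivial A with hA' | hA'
    · have hz : IsZero (Φ.obj A) := Φ.map_isZero (AddCommGrpCat.isZero_of_subsingleton A)
      refine subsingleton_of_forall_eq 0 fun z => ?_
      refine (Ext.comp_mk₀_id z).symm.trans ?_
      rw [hz.eq_of_src (𝟙 _) 0, Ext.mk₀_zero, Ext.comp_zero]
    · obtain ⟨p, hp, hpdvd⟩ := Nat.exists_prime_and_dvd (Finite.one_lt_card (α := A)).ne'
      haveI := Fact.mk hp
      obtain ⟨a₀, ha₀⟩ := exists_prime_addOrderOf_dvd_card' (G := A) p hpdvd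
      let i₀ : ZMod p →+ A := ZMod.lift p ⟨zmultiplesHom A a₀, by simp [← ha₀, addOrderOf_nsmul_eq_zero]⟩
      have hi₀ : Function.Injective i₀ := (ZMod.lift_injective p).2 fun z hz => by
        rw [ZMod.intCast_zmod_eq_zero_iff_dvd, ← ha₀]
        exact addOrderOf_dvd_iff_zsmul_eq_zero.2 (by simpa using hz)
      let i : AddCommGrpCat.of (ULift.{u + 1} (ZMod p)) ⟶ A :=
        AddCommGrpCat.ofHom (i₀.comp AddEquiv.ulift.toAddMonoidHom)
      haveI hi : Mono i := (AddCommGrpCat.mono_iff_injective i).2 (hi₀.comp AddEquiv.ulift.injective)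
      have hsurj : Function.Surjective (cokernel.π i) :=
        (AddCommGrpCat.epi_iff_surjective _).1 inferInstance
      haveI : Finite (cokernel i : AddCommGrpCat.{u + 1}) := Finite.of_surjective _ hsurj
      refine CdField.subsingleton_of_shortExact ((CdField.shortExact_cokernel i).map_of_exact Φ)
        (vanish_etale p f hdim W) ?_
      exact ih _ (CdField.card_cokernel_lt hp i) (cokernel i) rfl

/-- Positive numbers. -/
def IsPos (n : ℕ) : Prop := 0 < n

end Curve

section Curve2

variable {k : Type u} [Field k] [IsAlgClosed k] {X : Scheme.{u}} [IsAffine X] (f : X ⟶ Spec (CommRingCat.of k)) [IsSeparated f] [LocallyOfFiniteType f]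
  [QuasiCompact f] (hdim : topologicalKrullDim X ≤ 1)

variable (F : EtCoh.Ab X)

/-- Generators. -/
abbrev Gen : Type (u + 1) := SectData IsPos F

variable {F}

/-- Finite sums of generators. -/
abbrev S (A : Finset (Gen F)) : EtCoh.Ab X :=
  ⨁ fun d : A => EtPBC.extZeroConst d.1.W (ZMod d.1.n)

/-- Inclusion of sums. -/
def incl {A A' : Finset (Gen F)} (h : A ⊆ A') : S A ⟶ S A' :=
  biproduct.desc fun d => biproduct.ι (fun d : A' => EtPBC.extZeroConst d.1.W (ZMod d.1.n)) ⟨d.1, h d.2⟩

/-- Evaluation. -/
def φ (A : Finset (Gen F)) : S A ⟶ F := biproduct.desc fun d => d.1.hom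

lemma incl_φ {A A' : Finset (Gen F)} (h : A ⊆ A') : incl h ≫ φ A' = φ A :=
  biproduct.hom_ext' _ _ fun d => by simp [incl, φ]

variable (F) in
/-- The images of finite sums. -/
def imDiagram : Finset (Gen F) ⥤ EtCoh.Ab X where
  obj A := Limits.image (φ A)
  map {A A'} g := Limits.image.lift
    { I := Limits.image (φ A')
      m := Limits.image.ι _
      e := incl (leOfHom g) ≫ factorThruImage (φ A')
      fac := by rw [Category.assoc, Limits.image.fac, incl_φ] }
  map_id A := by
    rw [← cancel_mono (Limits.image.ι (φ A)), Limits.image.lift_fac, Category.id_comp]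
  map_comp {A A' A''} g g' := by
    rw [← cancel_mono (Limits.image.ι (φ A'')), Limits.image.lift_fac, Category.assoc, Limits.image.lift_fac, Limits.image.lift_fac]

variable (F) in
/-- The cocone of images. -/
def imCocone : Cocone (imDiagram F) where
  pt := F
  ι :=
    { app := fun A => Limits.image.ι (φ A)
      naturality := fun A A' g => by
        refine Eq.trans ?_ (Category.comp_id (Limits.image.ι (φ A))).symm
        exact Limits.image.lift_fac _ }

include f hdim in
theorem subsingleton_H_two (hF : EtCoh.IsTorsion F) :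
    Subsingleton (EtCoh.H X F 2) := by
  classical
  haveI : IsLocallyNoetherian X := LocallyOfFiniteType.isLocallyNoetherian f
  haveI : CompactSpace X := QuasiCompact.compactSpace_of_compactSpace f
  haveI : IsNoetherian X := {}
  have hgerm : ∀ (x : X) (t : (EtCoh.stalk (sepPoint X x)).obj F), ∃ b : ℕ, 0 < b ∧ b • t = 0 := fun x t => by
    obtain ⟨U, v, s, rfl⟩ :=
      (Scheme.pointSmallEtale (sepPoint X x)).toPresheafFiber_jointly_surjective (P := F.obj) t
    obtain ⟨V, g, ⟨z, hz⟩, h0⟩ := hF U s (fiberPt v)
    obtain ⟨b, hb, h0⟩ := isOfFinAddOrder_iff_nsmul_eq_zero.1 h0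
    refine ⟨b, hb, (map_nsmul _ _ s).symm.trans ?_⟩
    exact germ_eq_zero_of_not_mem_sectSupp F (sepPoint X x) U (b • s) v fun hs =>
      hs V g ⟨z, hz⟩ ((map_nsmul _ _ s).trans h0)
  have hc : Nonempty (IsColimit (imCocone F)) := by
    refine nonempty_isColimit_of_stalks _ (fun x a => ?_) fun x A b hb => ⟨A, 𝟙 A, ?_⟩
    · obtain ⟨b, hb, hb0⟩ := hgerm x a
      obtain ⟨d, w, hd⟩ := exists_sectData (P := IsPos) (sepPoint X x) a b hb hb hb0
      obtain ⟨z, hz⟩ := mem_range_stalk_sectData d w
      refine ⟨{d}, (EtCoh.stalk (sepPoint X x)).map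
        (biproduct.ι (fun e : ({d} : Finset (Gen F)) => EtPBC.extZeroConst e.1.W (ZMod e.1.n))
          ⟨d, Finset.mem_singleton_self d⟩ ≫ factorThruImage (φ {d})) z, ?_⟩
      refine (stalk_map_map (h := d.hom) ?_ _ z).trans (hz.trans hd)
      show (biproduct.ι (fun e : ({d} : Finset (Gen F)) => EtPBC.extZeroConst e.1.W (ZMod e.1.n))
          ⟨d, Finset.mem_singleton_self d⟩ ≫ factorThruImage (φ {d})) ≫ Limits.image.ι (φ {d}) = d.hom
      rw [Category.assoc, Limits.image.fac]
      exact biproduct.ι_desc (fun e : ({d} : Finset (Gen F)) => e.1.hom) _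
    · have hb' : (EtCoh.stalk (sepPoint X x)).map (Limits.image.ι (φ A)) b = 0 := hb
      haveI : Mono ((EtCoh.stalk (sepPoint X x)).map (Limits.image.ι (φ A))) := inferInstance
      rw [CategoryTheory.Functor.map_id, CategoryTheory.Functor.map_id]
      exact (AddCommGrpCat.mono_iff_injective ((EtCoh.stalk (sepPoint X x)).map (Limits.image.ι (φ A)))).mp
        inferInstance (hb'.trans (map_zero _).symm)
  obtain ⟨hc⟩ := hc
  have := EtCechLib.preservesColimitsOfShape_HF (X := X) 2 (Finset (Gen F))
  refine subsingleton_of_forall_eq 0 fun z => ?_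
  obtain ⟨A, b, rfl⟩ := Concrete.isColimit_exists_rep _ (isColimitOfPreserves (EtCoh.HF X 2) hc) z
  suffices hI : Subsingleton (EtCoh.H X (Limits.image (φ A)) 2) by
    rw [show b = 0 from @Subsingleton.elim _ hI _ _, map_zero]
  have hSA : Subsingleton (EtCoh.H X (S A) 2) := by
    refine subsingleton_H_biproduct _ 2 fun d => ?_
    haveI : IsAffine d.1.W.left := d.1.isAffine
    haveI : Etale d.1.W.hom := d.1.W.prop
    haveI : EtShriek.JCont d.1.W.hom := jCont d.1.W.hom
    haveI : NeZero d.1.n := ⟨d.1.pos.ne'⟩
    obtain ⟨e⟩ := nonempty_extZeroConst_iso d.1.W (ZMod d.1.n)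
    refine subsingleton_H_congr e.symm 2 ?_
    exact vanish_etale_group f hdim d.1.W (AddCommGrpCat.of (ULift.{u + 1} (ZMod d.1.n)))
  have hST : EtAcyc.IsLTorsion Set.univ (S A) := by
    rw [isLTorsion_iff_stalks]
    intro Ω _ _ ξ t
    obtain ⟨m, ⟨em⟩⟩ := Finite.exists_equiv_fin A
    have hcons : EtPBC.IsConstructible (S A) := isConstructible_of_iso
      (isConstructible_biproduct (fun i : Fin m => EtPBC.extZeroConst (em.symm i).1.W (ZMod (em.symm i).1.n))
        fun i =>
          haveI : NeZero (em.symm i).1.n := ⟨(em.symm i).1.pos.ne'⟩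
          isConstructible_extZeroConst _ (em.symm i).1.isAffine _)
      (biproduct.whiskerEquiv (f := fun i : Fin m => EtPBC.extZeroConst (em.symm i).1.W (ZMod (em.symm i).1.n))
        (g := fun d : A => EtPBC.extZeroConst d.1.W (ZMod d.1.n)) em.symm fun i => Iso.refl _)
    haveI := finite_stalk_of_isConstructible hcons ξ
    exact ⟨_, ⟨Nat.card_pos, fun q _ _ => trivial⟩, card_nsmul_eq_zero'⟩
  let q := factorThruImage (φ A)
  have hS : (ShortComplex.mk (kernel.ι q) q (kernel.condition q)).ShortExact :=
    { exact := ShortComplex.exact_kernel q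
      mono_f := inferInstanceAs (Mono (kernel.ι q))
      epi_g := inferInstanceAs (Epi (factorThruImage (φ A))) }
  exact subsingleton_right hS hSA (subsingleton_H_three f hdim _
    ((TorsionColim.isTorsion_iff _).2 (CdField.isLTorsion_of_mono (kernel.ι q) hST)) 0)

include f hdim in
/-- Affine curves have `cd ≤ 1`. -/
theorem cohDimLE_one : EtCoh.CohDimLE X 1 := by
  intro F hF q hq
  rcases Nat.lt_or_ge q 3 with h | h
  · obtain rfl : q = 2 := by omega
    exact subsingleton_H_two f hdim hF
  · obtain ⟨m, rfl⟩ : ∃ m, q = m + 3 := ⟨q - 3, by omega⟩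
    exact subsingleton_H_three f hdim F hF m

end Curve2

end Groth.Agent.CdAffine9.Devissage
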