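import Groth.Agent.CdAffine9.PicDiv
import Groth.Agent.CurveLib.Completion
import Groth.Agent.CubeLib.SmoothCurve
import Groth.Agent.Unram17Lib.RelDim
import Groth.Agent.GenSmoothLib.SmoothDim
import Groth.Agent.VarietyLib.LocalDimPt
import Groth.Agent.CurveRR24.VeryAmple
import Groth.Agent.GalEt.GmCurve
import Groth.Agent.GalEt.CdDimOne
import Groth.Agent.HenselLib.KummerSheaf
import Groth.Agent.AlgSpLib.DimBasic

/-!
`H^2(T, mu_n) = 0` for normal affine curves.
-/

set_option autoImplicit false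
set_option linter.all false
set_option backward.isDefEq.respectTransparency.types false
set_option backward.isDefEq.respectTransparency false
set_option synthInstance.maxHeartbeats 400000
set_option maxHeartbeats 1000000

universe u

open CategoryTheory CategoryTheory.Limits CategoryTheory.Abelian AlgebraicGeometry TopologicalSpace
open Groth.Agent.Et18 Groth.Agent.PicLib

noncomputable section

namespace Groth.Agent.CdAffine9

/-- Smooth irreducible curves are smooth of relative dimension one. -/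
theorem smoothOfRelativeDimension_one {k : Type u} [Field k] {X : Scheme.{u}} (f : X ⟶ Spec (CommRingCat.of k))
    [Smooth f] [IrreducibleSpace X] (hdim : topologicalKrullDim X = 1) : SmoothOfRelativeDimension 1 f := by
  choose V n hxV hn using fun x => Unram17Lib.exists_smoothOfRelativeDimension f x
  have h1 : ∀ x, n x = 1 := fun x => by
    have := hn x
    have h := Unram17Lib.localDim_of_smoothOfRelativeDimension k ((V x).ι ≫ f) (n x) ⟨x, hxV x⟩
    have := (V x).ι.isOpenEmbedding.quasiSober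
    rw [AlgSpLib.localDim_eq_of_map (V x).ι.continuous (V x).ι.isOpenEmbedding.isOpenMap
      (V x).ι.isOpenEmbedding.generalizingMap (fun a a' _ e => (V x).ι.isOpenEmbedding.injective e) _] at h
    have h2 := GenSmoothLib.localDim_eq_topologicalKrullDim f ((V x).ι ⟨x, hxV x⟩)
    rw [h, hdim] at h2
    exact_mod_cast h2
  refine IsZariskiLocalAtSource.of_iSup_eq_top (P := @SmoothOfRelativeDimension 1) V ?_ fun x => ?_
  · exact eq_top_iff.2 fun x _ => TopologicalSpace.Opens.mem_iSup.2 ⟨x, hxV x⟩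
  · have := hn x
    rwa [h1 x] at this

/-- Divisibility of classes along an isomorphism. -/
theorem root_of_iso {X Y : Scheme.{u}} (e : X ≅ Y) (n : ℕ) (h : ∀ c : PicM Y, ∃ d : PicM Y, c = d ^ n)
    (c : PicM X) : ∃ d : PicM X, c = d ^ n := by
  obtain ⟨d, hd⟩ := h (PicM.pull e.inv c)
  refine ⟨PicM.pull e.hom d, ?_⟩
  rw [← map_pow, ← hd, PicM.pull_pull, e.hom_inv_id, PicM.pull_id]

/-- The multiplicative group of an open missing a point has divisible `H^1`. -/
theorem root_of_affine {k : Type u} [Field k] [IsAlgClosed k] (T : Scheme.{u}) (g : T ⟶ Spec (CommRingCat.of k))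
    [LocallyOfFiniteType g] [QuasiCompact g] [IsSeparated g] [IsAffine T] [IsIntegral T] (hnorm : Pi1.IsNormalScheme T)
    (hdim : topologicalKrullDim T = 1) (n : ℕ) (hn : (n : k) ≠ 0) (c : PicM T) : ∃ d : PicM T, c = d ^ n := by
  letI : T.Over (Spec (CommRingCat.of k)) := ⟨g⟩
  haveI : LocallyOfFiniteType (T ↘ Spec (CommRingCat.of k)) := ‹LocallyOfFiniteType g›
  have hcurve : ∀ x : T, IsClosed ({x} : Set T) → ringKrullDim (T.presheaf.stalk x) = 1 := fun x hx =>
    CurveRR24.stalk_dim_eq_one hdim hx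
  obtain ⟨Y, sY, j, hj, hdense, hjs, hproper, hnY, hcY⟩ :=
    CurveLib.exists_completion_integral T g hcurve hnorm
  haveI := hj
  haveI := hproper
  haveI : IrreducibleSpace Y := by
    rw [irreducibleSpace_def, Set.top_eq_univ, ← hdense.closure_eq]
    refine IsIrreducible.closure ?_
    rw [← Set.image_univ]
    exact IrreducibleSpace.isIrreducible_univ T |>.image _ j.continuous.continuousOn
  haveI : ∀ y : Y, IsDomain (Y.presheaf.stalk y) := fun y => (hnY y).1
  haveI : IsReduced Y := isReduced_of_isReduced_stalk Y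
  haveI : IsIntegral Y := isIntegral_of_irreducibleSpace_of_isReduced Y
  haveI : Smooth sY := CubeLib.smooth_of_normal_curve sY hnY hcY
  haveI : IsLocallyNoetherian Y := LocallyOfFiniteType.isLocallyNoetherian sY
  have hdimY : topologicalKrullDim Y = 1 := by
    refine le_antisymm ?_ (hdim ▸ j.isOpenEmbedding.isInducing.topologicalKrullDim_le)
    obtain ⟨y, hy⟩ : ∃ y : Y, IsClosed ({y} : Set Y) := by
      haveI : CompactSpace Y := QuasiCompact.compactSpace_of_compactSpace sY
      exact IsClosed.exists_closed_singleton (isClosed_univ) Set.univ_nonempty |>.imp fun y hy => hy.2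
    rw [← GenSmoothLib.localDim_eq_topologicalKrullDim sY y, VarietyLib.localDim_eq_stalk_add_ptDim sY y,
      hcY y hy, (DimLib.ptDim_eq_zero_iff sY y).2 hy]
    rfl
  haveI : SmoothOfRelativeDimension 1 sY := smoothOfRelativeDimension_one sY hdimY
  letI : Y.Over (Spec (CommRingCat.of k)) := ⟨sY⟩
  haveI : IsProper (Y ↘ Spec (CommRingCat.of k)) := hproper
  haveI : SmoothOfRelativeDimension 1 (Y ↘ Spec (CommRingCat.of k)) := ‹SmoothOfRelativeDimension 1 sY›
  obtain ⟨P, hP⟩ : ∃ P : Y, P ∉ Set.range j := by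
    by_contra hall
    push Not at hall
    haveI : Surjective j := ⟨fun y => hall y⟩
    haveI : IsIso j := (isIso_iff_isOpenImmersion_and_epi_base j).2 ⟨inferInstance, (TopCat.epi_iff_surjective _).2 j.surjective⟩
    haveI : IsAffine Y := IsAffine.of_isIso (inv j)
    haveI : IsAffineHom sY := inferInstance
    haveI : IsFinite sY := IsFinite.iff_isProper_and_isAffineHom.2 ⟨hproper, inferInstance⟩
    have h0 := AlgSpLib.topologicalKrullDim_le_of_isIntegralHom sY
    rw [hdimY] at h0
    have h1 : topologicalKrullDim (Spec (CommRingCat.of k)) = 0 := by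
      show topologicalKrullDim (PrimeSpectrum k) = 0
      rw [PrimeSpectrum.topologicalKrullDim_eq_ringKrullDim]
      exact ringKrullDim_eq_zero_of_field k
    rw [h1] at h0
    exact absurd h0 (by decide)
  have hηr : genericPoint Y ∈ Set.range j := by
    obtain ⟨t⟩ : Nonempty T := inferInstance
    exact (genericPoint_specializes (j t)).mem_open j.isOpenEmbedding.isOpen_range ⟨t, rfl⟩
  have hPcl : IsClosed ({P} : Set Y) :=
    VarietyLib.isClosed_of_specializes_ne hdimY.le (genericPoint_specializes P) fun e => hP (e ▸ hηr)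
  exact root_of_iso j.isoOpensRange n
    (fun c => exists_root Y hdimY n hn j.opensRange hPcl hP hηr c) c

/-- `H^2(T, μ_n) = 0` for curves with divisible Picard group, and `μ_n` is constant. -/
theorem subsingleton_H_two_of_root {k : Type u} [Field k] [IsAlgClosed k] (T : Scheme.{u})
    (g : T ⟶ Spec (CommRingCat.of k)) [LocallyOfFiniteType g] [QuasiCompact g] [IsSeparated g]
    [IsIntegral T] (hdim : topologicalKrullDim T = 1) (n : ℕ) (hn1 : 1 ≤ n)
    (hn : (n : k) ≠ 0) (hroot : ∀ c : PicM T, ∃ d : PicM T, c = d ^ n) :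
    Nonempty (EtCoh.mu T n ≅ EtCoh.const T (ZMod n)) ∧ Subsingleton (EtCoh.H T (EtCoh.mu T n) 2) := by
  let φ : k →+* Γ(T, ⊤) := g.appTop.hom.comp (Scheme.ΓSpecIso (CommRingCat.of k)).inv.hom
  have hu : IsUnit (n : Γ(T, ⊤)) := by
    have := (isUnit_iff_ne_zero.2 hn).map φ
    rwa [map_natCast] at this
  haveI : Epi (EtCoh.powMap T n) := HenselLib.Kummer.epi_powMap n hu
  haveI : NeZero (n : k) := ⟨hn⟩
  obtain ⟨ζ, hζ⟩ := HasEnoughRootsOfUnity.exists_primitiveRoot k n
  let z : Γ(T, ⊤)ˣ := Units.map φ.toMonoidHom (hζ.isUnit (by omega)).unit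
  have hz : z ^ n = 1 := Units.ext (by
    show φ ζ ^ n = 1
    rw [← map_pow, hζ.pow_eq_one, map_one])
  have hc : Polynomial.aeval (z : Γ(T, ⊤)) (Polynomial.cyclotomic n ℤ) = 0 := by
    show Polynomial.aeval (φ ζ) (Polynomial.cyclotomic n ℤ) = 0
    rw [Polynomial.aeval_def, show algebraMap ℤ Γ(T, ⊤) = φ.comp (Int.castRingHom k) from RingHom.ext_int _ _,
      ← Polynomial.hom_eval₂, ← Polynomial.eval_map, Polynomial.map_cyclotomic_int,
      (hζ.isRoot_cyclotomic (by omega)).eq_zero, map_zero]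
  obtain ⟨i⟩ := HenselLib.Kummer.nonempty_iso n hn1 z hz hu hc
  refine ⟨⟨i⟩, ?_⟩
  haveI h2 := GalEt.subsingleton_H_Gm_curve g hdim 2 le_rfl
  have hS := EtSix.kummerShortExact (X := T) (n := n) inferInstance
  refine GalEt.subsingleton_of_forall_eq_zero fun y => ?_
  obtain ⟨x, rfl⟩ := Ext.covariant_sequence_exact₁ _ hS y
    (Subsingleton.elim (α := EtCoh.H T (EtCoh.Gm T) 2) _ _) rfl
  obtain ⟨w, rfl⟩ := H1_Gm_divisible T n hroot x
  let φ' : (EtCoh.Gm T ⟶ EtCoh.Gm T) →+ EtCoh.H T (EtCoh.Gm T) 1 :=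
    AddMonoidHom.mk' (fun f => w.comp (Ext.mk₀ f) (add_zero 1)) fun a b => by
      simp only [Ext.mk₀_add, Ext.comp_add]
  have hw : n • w = w.comp (Ext.mk₀ (EtSix.kummerSC T n).g) (add_zero 1) := by
    show _ = φ' (n • 𝟙 _)
    rw [map_nsmul]
    exact congrArg (n • ·) (Ext.comp_mk₀_id w).symm
  rw [hw]
  exact (Ext.comp_assoc_of_second_deg_zero w _ hS.extClass _).trans
    ((congrArg (fun t => Ext.comp w t (rfl : 1 + 1 = 1 + 1)) hS.comp_extClass).trans (Ext.comp_zero w _ _ _ _))

/-- `H^2(T, μ_n) = 0` for normal affine curves. -/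
theorem subsingleton_H_two_const {k : Type u} [Field k] [IsAlgClosed k] (T : Scheme.{u})
    (g : T ⟶ Spec (CommRingCat.of k)) [LocallyOfFiniteType g] [QuasiCompact g] [IsSeparated g] [IsAffine T]
    [IsIntegral T] (hnorm : Pi1.IsNormalScheme T) (hdim : topologicalKrullDim T = 1) (n : ℕ) (hn1 : 1 ≤ n)
    (hn : (n : k) ≠ 0) : Subsingleton (EtCoh.H T (EtCoh.const T (ZMod n)) 2) := by
  obtain ⟨⟨i⟩, h⟩ := subsingleton_H_two_of_root T g hdim n hn1 hn (root_of_affine T g hnorm hdim n hn)
  exact (((EtCoh.HF T 2).mapIso i).addCommGroupIsoToAddEquiv.toEquiv.subsingleton_congr).1 h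

/-- `H^0` of the roots of unity. -/
theorem nonempty_H_zero_mu {k : Type u} [Field k] [IsAlgClosed k] (T : Scheme.{u})
    (g : T ⟶ Spec (CommRingCat.of k)) [IsIntegral T] (n : ℕ) (hn1 : 1 ≤ n) (hn : (n : k) ≠ 0) :
    Nonempty (EtCoh.H T (EtCoh.mu T n) 0 ≃+ Additive ↥(rootsOfUnity n k)) := by
  let U := EtCoh.top T
  let Γ' : Type u := Γ(U.left, ⊤)
  haveI : IsDomain Γ' := inferInstanceAs (IsDomain Γ(T, ⊤))
  let φ : k →+* Γ' := g.appTop.hom.comp (Scheme.ΓSpecIso (CommRingCat.of k)).inv.hom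
  let Φ : Additive ↥(rootsOfUnity n k) →+ EtCoh.sect (EtCoh.Gm T) U :=
    AddMonoidHom.mk' (fun ζ => HenselLib.Kummer.sec (Units.map φ.toMonoidHom (ζ.toMul : kˣ))) fun a b => by
      rw [← HenselLib.Kummer.sec_mul, ← map_mul]
      rfl
  let Ψ : EtCoh.H T (EtCoh.mu T n) 0 →+ EtCoh.sect (EtCoh.Gm T) U :=
    (AddMonoidHom.mk' (fun f => EtLimit.secOf (f ≫ EtCoh.muι T n)) fun a b => by
      rw [Preadditive.add_comp]
      simp only [EtLimit.secOf, Adjunction.homEquiv_unit, Functor.map_add, Preadditive.comp_add]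
      rfl).comp Ext.addEquiv₀.toAddMonoidHom
  haveI : Mono (EtCoh.muι T n) := inferInstanceAs (Mono (kernel.ι _))
  have hΨ : Function.Injective Ψ := fun a b h =>
    Ext.addEquiv₀.injective ((cancel_mono (EtCoh.muι T n)).1 (EtLimit.secOf_injective h))
  have hΦ : Function.Injective Φ := fun a b h => by
    have h1 := Units.ext_iff.1 (HenselLib.Kummer.sec_injective h)
    exact Additive.toMul.injective (Subtype.ext (Units.ext (φ.injective h1)))
  haveI : NeZero n := ⟨by omega⟩
  haveI : NeZero (n : k) := ⟨hn⟩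
  have hrange : ∀ s, s ∈ Set.range Φ ↔ s ∈ Set.range Ψ := fun s => by
    constructor
    · rintro ⟨ζ, rfl⟩
      obtain ⟨f, hf⟩ := EtLimit.exists_secOf (Φ ζ)
      have h0 : f ≫ EtCoh.powMap T n = 0 := EtLimit.secOf_injective (by
        rw [EtCoh.powMap, Preadditive.comp_nsmul, Category.comp_id, TorsionColim.secOf_nsmul, hf, EtLimit.secOf_zero,
          ← map_nsmul, show n • ζ = 0 from Additive.toMul.injective (Subtype.ext ζ.toMul.2), map_zero])
      exact ⟨Ext.mk₀ (kernel.lift _ f h0), (congrArg (fun m => EtLimit.secOf (m ≫ EtCoh.muι T n))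
        (Ext.addEquiv₀.apply_symm_apply (kernel.lift _ f h0))).trans ((congrArg EtLimit.secOf (kernel.lift_ι _ f h0)).trans hf)⟩
    · rintro ⟨x, rfl⟩
      let f := Ext.addEquiv₀ x ≫ EtCoh.muι T n
      obtain ⟨v, hv⟩ := HenselLib.Kummer.sec_surjective (EtLimit.secOf f)
      have h0 : n • f = 0 := by
        have h := congrArg (Ext.addEquiv₀ x ≫ ·) (kernel.condition (EtCoh.powMap T n))
        simpa [f, EtCoh.muι, EtCoh.powMap] using h
      have hv' : v ^ n = 1 := HenselLib.Kummer.sec_injective (by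
        rw [HenselLib.Kummer.sec_pow, hv, HenselLib.Kummer.sec_one, ← TorsionColim.secOf_nsmul, h0, EtLimit.secOf_zero])
      obtain ⟨ζ, hζ⟩ := HasEnoughRootsOfUnity.exists_primitiveRoot k n
      obtain ⟨i, -, hi⟩ := (hζ.map_of_injective φ.injective).eq_pow_of_pow_eq_one
        (show (v : Γ') ^ n = 1 from congrArg Units.val hv')
      refine ⟨Additive.ofMul ⟨(hζ.isUnit (by omega)).unit ^ i, ?_⟩, ?_⟩
      · rw [mem_rootsOfUnity, ← pow_mul, mul_comm, pow_mul]
        have : (hζ.isUnit (by omega)).unit ^ n = 1 := Units.ext hζ.pow_eq_one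
        rw [this, one_pow]
      · refine (congrArg HenselLib.Kummer.sec (Units.ext ?_)).trans hv
        show φ (ζ ^ i) = (v : Γ')
        rw [map_pow]
        exact hi
  exact ⟨((AddMonoidHom.ofInjective hΨ).trans
    (AddEquiv.addSubgroupCongr (show Ψ.range = Φ.range from SetLike.ext fun s => (hrange s).symm))).trans (AddMonoidHom.ofInjective hΦ).symm⟩

end Groth.Agent.CdAffine9
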