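import Groth.Agent.Models7.PicModPow
import Groth.Agent.CurveRR24.RR
import Groth.Agent.PicLib.PicGroup
import Groth.Agent.CurveRR24.Ample
import Groth.Agent.PicTau27.CurveAlg
import Groth.Agent.ProjLib.BlowUpBasics
import Groth.Agent.VarietyLib.DivisorGlue
import Groth.Agent.CurveRR24.AlgClosed
import Groth.Agent.S0234
import Groth.Agent.CAlgH3.EtPic
import Groth.Agent.PicH127.Units

/-!
Picard groups of open subcurves are divisible by orders invertible in the field.
-/

set_option autoImplicit false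
set_option linter.all false
set_option backward.isDefEq.respectTransparency.types false
set_option backward.isDefEq.respectTransparency false
set_option synthInstance.maxHeartbeats 400000
set_option maxHeartbeats 1000000

universe u

open CategoryTheory CategoryTheory.Limits AlgebraicGeometry TopologicalSpace
open Groth.Agent.Coherent Groth.Agent.PicLib Groth.Agent.CurveRR24 Groth.Agent.AmpleLib

noncomputable section

namespace Groth.Agent.CdAffine9

/-- The generic point of an integral curve is not closed. -/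
theorem not_isClosed_genericPoints (Y : Scheme.{u}) [IsIntegral Y] (hdim : topologicalKrullDim Y = 1) :
    ∀ z ∈ genericPoints Y, ¬ IsClosed ({z} : Set Y) := by
  intro z hz hcl
  have hz' : z = genericPoint Y := by
    have h1 : closure ({z} : Set Y) = Set.univ := by
      have : closure ({z} : Set Y) ∈ irreducibleComponents (Y : Type u) := hz
      rwa [irreducibleComponents_eq_singleton, Set.mem_singleton_iff] at this
    exact ((isGenericPoint_def.2 h1).eq (genericPoint_spec Y))
  subst hz'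
  have huniv : (Set.univ : Set Y) = {genericPoint Y} := by
    rw [← genericPoint_closure (α := Y), hcl.closure_eq]
  haveI : Subsingleton Y := ⟨fun a b => by
    have ha : a ∈ ({genericPoint Y} : Set Y) := huniv ▸ Set.mem_univ a
    have hb : b ∈ ({genericPoint Y} : Set Y) := huniv ▸ Set.mem_univ b
    exact ha.trans hb.symm⟩
  have h0 : topologicalKrullDim Y ≤ 0 := by
    haveI : Subsingleton (IrreducibleCloseds Y) := ⟨fun A B => by
      apply IrreducibleCloseds.ext
      obtain ⟨a, ha⟩ := A.isIrreducible.nonempty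
      obtain ⟨b, hb⟩ := B.isIrreducible.nonempty
      ext x
      exact ⟨fun _ => Subsingleton.elim b x ▸ hb, fun _ => Subsingleton.elim a x ▸ ha⟩⟩
    exact Order.krullDim_nonpos_of_subsingleton
  rw [hdim] at h0
  exact absurd h0 (by decide)

/-- On a smooth proper curve every class is a point class up to powers. -/
theorem exists_pow_mul_point {k : Type u} [Field k] [IsAlgClosed k] (Y : Scheme.{u})
    [Y.Over (Spec (CommRingCat.of k))] [IsProper (Y ↘ Spec (CommRingCat.of k))]
    [SmoothOfRelativeDimension 1 (Y ↘ Spec (CommRingCat.of k))] [IsIntegral Y]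
    (hdim : topologicalKrullDim Y = 1) (n : ℕ) (hn : (n : k) ≠ 0) {P : Y} (hP : IsClosed ({P} : Set Y))
    (hI : PicF.IsInvertible (ClSub.idealMod (ptIdeal P hP))) (c : PicM Y) :
    ∃ (d : PicM Y) (a : ℕ), c = d ^ n * PicM.of hI ^ a := by
  classical
  by_cases hn1' : n = 1
  · subst hn1'
    exact ⟨c, 0, by simp⟩
  have hgen := not_isClosed_genericPoints Y hdim
  obtain ⟨e, he⟩ := Models7.exists_generators_mod_pow (Y ↘ Spec (CommRingCat.of k)) hdim.le hgen n hn
  haveI : Subsingleton (genericPoints Y) := ⟨fun a b => Subtype.ext (by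
    have ha : closure ({(a : Y)} : Set Y) ∈ irreducibleComponents (Y : Type u) := a.2
    have hb : closure ({(b : Y)} : Set Y) ∈ irreducibleComponents (Y : Type u) := b.2
    rw [irreducibleComponents_eq_singleton, Set.mem_singleton_iff] at ha hb
    exact ((isGenericPoint_def.2 ha).eq (isGenericPoint_def.2 hb)))⟩
  haveI : Nonempty (genericPoints Y) := ⟨⟨genericPoint Y, by
    show closure ({genericPoint Y} : Set Y) ∈ irreducibleComponents (Y : Type u)
    rw [irreducibleComponents_eq_singleton, genericPoint_closure, Set.mem_singleton_iff]⟩⟩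
  let η₀ : genericPoints Y := Classical.arbitrary _
  have key : ∀ x : PicM Y, ∃ (d : PicM Y) (a : ℕ), x = d ^ n * e η₀ ^ a := fun x => by
    obtain ⟨d, a, rfl⟩ := he x
    refine ⟨d, a η₀, ?_⟩
    rw [Finsupp.prod_of_support_subset a (s := {η₀}) (fun i _ => Finset.mem_singleton.2 (Subsingleton.elim i η₀)) _
      (fun i _ => pow_zero _), Finset.prod_singleton]
  obtain ⟨E, hE, hEe⟩ := (e η₀).exists_eq_of
  obtain ⟨d₁, a₁, h1⟩ := key (PicM.of hI)
  obtain ⟨D, hD, rfl⟩ := d₁.exists_eq_of
  have hdegP : Curv2.deg k Y (ClSub.idealMod (ptIdeal P hP)) 1 = -1 := by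
    let _ := Curv2.resAlgebra k Y P
    rw [deg_ptIdeal k hP, finrank_resField k hP]
    rfl
  rw [hEe, ← PicM.of_tensorPow, ← PicM.of_tensorPow, PicM.of_mul, PicM.of_eq_iff] at h1
  obtain ⟨φ⟩ := h1
  have hdeg := deg_congr k φ 1
  rw [hdegP, deg_tensor k hdim.le (isInvertible_tensorPow hD n) (isInvertible_tensorPow hE a₁),
    deg_tensorPow k hdim.le hD, deg_tensorPow k hdim.le hE] at hdeg
  have hn0 : 0 < n := Nat.pos_of_ne_zero fun h => hn (by rw [h, Nat.cast_zero])
  -- an inverse of `a₁` modulo `n`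
  obtain ⟨u, m, hum⟩ : ∃ u m : ℕ, a₁ * u = 1 + n * m := by
    have hco : Nat.Coprime a₁ n := by
      refine Nat.coprime_of_dvd' fun p _ hpa hpn => ?_
      have : (p : ℤ) ∣ -1 := hdeg ▸ dvd_add (Dvd.dvd.mul_right (Int.natCast_dvd_natCast.2 hpn) _)
        (Dvd.dvd.mul_right (Int.natCast_dvd_natCast.2 hpa) _)
      exact_mod_cast (Int.dvd_neg.1 this)
    obtain ⟨u, -, hu⟩ := Nat.exists_mul_mod_eq_one_of_coprime hco (by omega)
    exact ⟨u, a₁ * u / n, (Nat.mod_add_div (a₁ * u) n).symm.trans (by rw [hu])⟩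
  have h1' : PicM.of hI = PicM.of hD ^ n * e η₀ ^ a₁ := by
    rw [hEe, ← PicM.of_tensorPow, ← PicM.of_tensorPow, PicM.of_mul, PicM.of_eq_iff]
    exact ⟨φ⟩
  have he' : ∃ (d : PicM Y), e η₀ = d ^ n * PicM.of hI ^ u := by
    obtain ⟨w, hw⟩ := PicM.exists_mul_eq_one (PicM.of hD ^ u * e η₀ ^ m)
    refine ⟨w, ?_⟩
    rw [h1', mul_pow, ← pow_mul, ← pow_mul, hum, pow_add, pow_one, mul_comm n m, pow_mul (e η₀),
      mul_comm n u, pow_mul (PicM.of hD)]
    calc e η₀ = ((PicM.of hD ^ u * e η₀ ^ m) * w) ^ n * e η₀ := by rw [hw, one_pow, one_mul]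
      _ = _ := by simp only [mul_pow, mul_assoc, mul_comm, mul_left_comm]
  obtain ⟨d', hd'⟩ := he'
  obtain ⟨d, a, rfl⟩ := key c
  exact ⟨d * d' ^ a, u * a, by rw [hd', mul_pow, mul_pow, ← pow_mul, ← pow_mul, ← pow_mul, mul_comm a n, mul_assoc]⟩

/-- Classes of modules on an open missing a point of a smooth proper curve are powers. -/
theorem exists_root {k : Type u} [Field k] [IsAlgClosed k] (Y : Scheme.{u})
    [Y.Over (Spec (CommRingCat.of k))] [IsProper (Y ↘ Spec (CommRingCat.of k))]
    [SmoothOfRelativeDimension 1 (Y ↘ Spec (CommRingCat.of k))] [IsIntegral Y]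
    (hdim : topologicalKrullDim Y = 1) (n : ℕ) (hn : (n : k) ≠ 0) (U : Y.Opens) {P : Y} (hP : IsClosed ({P} : Set Y))
    (hPU : P ∉ U) (hη : genericPoint Y ∈ U) (c : PicM (U : Scheme.{u})) : ∃ d : PicM (U : Scheme.{u}), c = d ^ n := by
  haveI : IsLocallyNoetherian Y := LocallyOfFiniteType.isLocallyNoetherian (Y ↘ Spec (CommRingCat.of k))
  have hcart : BlowUp.IsEffCartierIdeal (ptIdeal P hP) := by
    let Q := pointOfClosedPoint (Y ↘ Spec (CommRingCat.of k)) P hP
    have h := PicTau27.isEffCartier_point (C := Y) Q (pointOfClosedPoint_comp _ _ _)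
    have hk : Q.ker = ptIdeal P hP := by
      show Scheme.Hom.ker (Spec.map _ ≫ _) = _
      rw [Scheme.Hom.ker_comp_of_isIso, ker_fromSpecResidueField']
    rwa [hk] at h
  have hI := FlatMor12.IdealModGen.isInvertible_idealMod _ hcart
  have htop : (ptIdeal P hP).comap U.ι = ⊤ := by
    refine ProjLib.comap_eq_top_of_disjoint _ U.ι ?_
    rw [Scheme.Opens.range_ι, support_ptIdeal hP]
    exact Set.disjoint_singleton_right.2 hPU
  have hpull : PicM.pull U.ι (PicM.of hI) = 1 := by
    have hI' : BlowUp.IsEffCartierIdeal ((ptIdeal P hP).comap U.ι) := htop ▸ Models7.isEffCartier_top _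
    obtain ⟨e⟩ := Inters29.nonempty_pullback_idealMod_iso U.ι _ hcart hI'
    rw [PicM.pull_of, ← Inters29.idealCl_one, Inters29.idealCl, PicM.of_eq_iff]
    exact ⟨e ≪≫ eqToIso (congrArg ClSub.idealMod (htop.trans Scheme.IdealSheafData.one_eq_top.symm))⟩
  obtain ⟨L, hL, rfl⟩ := c.exists_eq_of
  obtain ⟨L', hL', ⟨eL⟩⟩ := S0234.result Y U L hL fun x hx => by
    have hcl : IsClosed ({x} : Set Y) := by
      exact VarietyLib.isClosed_of_specializes_ne hdim.le (genericPoint_specializes x) fun e => hx (e ▸ hη)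
    haveI : Smooth (Y ↘ Spec (CommRingCat.of k)) := SmoothOfRelativeDimension.smooth 1 _
    haveI : Smooth ((⊤ : Y.Opens).ι ≫ (Y ↘ Spec (CommRingCat.of k))) := inferInstance
    have hgen := not_isClosed_genericPoints Y hdim
    obtain ⟨_, _⟩ := Models7.isDVR_of_smooth_chart (Y ↘ Spec (CommRingCat.of k)) hdim.le hgen ⊤ (x := x) trivial hcl
    infer_instance
  obtain ⟨d, a, hd⟩ := exists_pow_mul_point Y hdim n hn hP hI (PicM.of hL')
  refine ⟨PicM.pull U.ι d, ?_⟩
  have h := congrArg (PicM.pull U.ι) hd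
  rw [map_mul, map_pow, map_pow, hpull, one_pow, mul_one, PicM.pull_of] at h
  rw [← h, PicM.of_eq_iff]
  exact ⟨eL.symm ≪≫ ((Scheme.Modules.restrictFunctorIsoPullback U.ι).app L')⟩

/-- The comparison of the Picard group with the monoid of invertible classes. -/
noncomputable def toM {U : Scheme.{u}} [PicGrp.Law U] : PicLoc.PicSet U →* PicM U where
  toFun a := ⟨a.1, a.2⟩
  map_one' := PicM.ext (PicGrp.one_val (Y := U))
  map_mul' a b := PicM.ext (PicGrp.mul_val a b)

/-- `H^1(U, G_m)` is divisible by `n`. -/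
theorem H1_Gm_divisible (U : Scheme.{u}) (n : ℕ) (h : ∀ c : PicM U, ∃ d : PicM U, c = d ^ n)
    (x : EtCoh.H U (EtCoh.Gm U) 1) : ∃ y, n • y = x := by
  obtain ⟨law⟩ := PicH127.nonempty_law U
  letI := law
  obtain ⟨e⟩ := CAlgH3.EtPic.nonempty_pic_addEquiv U
  obtain ⟨c, rfl⟩ := e.surjective x
  obtain ⟨d, hd⟩ := h (toM c.toMul)
  let d' : PicLoc.PicSet U := ⟨d.val, d.prop⟩
  refine ⟨e (Additive.ofMul d'), ?_⟩
  rw [← map_nsmul, ← ofMul_pow]
  congr 1
  refine congrArg Additive.ofMul (Subtype.ext ?_) |>.trans (ofMul_toMul c)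
  have : toM (d' ^ n) = toM c.toMul := by rw [map_pow, hd]; rfl
  exact congrArg PicM.val this

end Groth.Agent.CdAffine9
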